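import Mathlib
import Groth.Prelude.Def_KZero
import Groth.Agent.K0ResLib.Basic

/-!
# Hilbert polynomials with values in the Grothendieck group
-/

set_option autoImplicit false
universe u

open DirectSum

noncomputable section

namespace Groth.Agent.HilbK0Lib

/-- Eventually, the `k`-th difference vanishes. -/
def IsP {G : Type*} [AddCommGroup G] : ℕ → (ℕ → G) → Prop
  | 0, f => ∃ N, ∀ n, N ≤ n → f n = 0
  | k + 1, f => IsP k fun n => f (n + 1) - f n

theorem IsP.shift {G : Type*} [AddCommGroup G] : ∀ {k : ℕ} {f : ℕ → G}, IsP k f → IsP k fun n => f (n + 1)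
  | 0, _, ⟨N, hN⟩ => ⟨N, fun n hn => hN (n + 1) (by omega)⟩
  | k + 1, f, h => IsP.shift (k := k) (f := fun n => f (n + 1) - f n) h

theorem IsP.sub {G : Type*} [AddCommGroup G] : ∀ {k : ℕ} {f g : ℕ → G}, IsP k f → IsP k g → IsP k fun n => f n - g n
  | 0, _, _, ⟨N, hN⟩, ⟨N', hN'⟩ => ⟨max N N', fun n hn => by
      beta_reduce
      rw [hN n (le_of_max_le_left hn), hN' n (le_of_max_le_right hn), sub_zero]⟩
  | k + 1, f, g, hf, hg => by
      have h := IsP.sub (k := k) hf hg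
      show IsP k fun n => (f (n + 1) - g (n + 1)) - (f n - g n)
      convert h using 2 with n
      abel

theorem IsP.exists_choose {G : Type*} [AddCommGroup G] : ∀ {k : ℕ} {f : ℕ → G}, IsP k f →
    ∃ (a : Fin k → G) (N : ℕ), ∀ n, N ≤ n → f n = ∑ i : Fin k, ((n.choose (i : ℕ) : ℕ) : ℤ) • a i
  | 0, _, ⟨N, hN⟩ => ⟨Fin.elim0, N, fun n hn => by rw [hN n hn]; simp⟩
  | k + 1, f, h => by
      obtain ⟨a, N, hN⟩ := IsP.exists_choose (k := k) h
      let g : ℕ → G := fun n => f n - ∑ i : Fin k, ((n.choose ((i : ℕ) + 1) : ℕ) : ℤ) • a i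
      have hg : ∀ n, N ≤ n → g (n + 1) = g n := fun n hn => by
        have h1 := hN n hn
        simp only [g, Nat.choose_succ_succ', Nat.cast_add, add_smul, Finset.sum_add_distrib] at h1 ⊢
        rw [← h1]
        abel
      have hg' : ∀ n, N ≤ n → g n = g N := fun n hn => Nat.le_induction rfl (fun m hm ih => (hg m hm).trans ih) n hn
      refine ⟨Fin.cons (g N) a, N, fun n hn => ?_⟩
      rw [Fin.sum_univ_succ]
      simp only [Fin.cons_zero, Fin.cons_succ, Fin.val_succ, Fin.val_zero, Nat.choose_zero_right, Nat.cast_one, one_smul]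
      rw [← hg' n hn]
      simp [g]

variable {A S : Type u} [CommRing A] [CommRing S] [Algebra A S] (𝒜 : ℕ → Submodule A S) [GradedAlgebra 𝒜]
  {M : Type u} [AddCommGroup M] [Module A M] [Module S M] [IsScalarTower A S M]
  (ℳ : ℕ → Submodule A M) [DirectSum.Decomposition ℳ] [SetLike.GradedSMul 𝒜 ℳ]

abbrev fin (A : Type u) [CommRing A] : CategoryTheory.ObjectProperty (ModuleCat.{u} A) := fun X => Module.Finite A X

/-- The class of the degree `n` part of a submodule. -/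
def cls (K : Submodule S M) (n : ℕ) : KZero.K0sub (fin A) :=
  KZero.clSub (fin A) (ModuleCat.of A ↥(K.restrictScalars A ⊓ ℳ n))

theorem comp_smul {s : S} {g : M} {d : ℕ} (hg : g ∈ ℳ d) (i : ℕ) :
    ((decompose ℳ (s • g)) (i + d) : M) = (decompose 𝒜 s i : S) • g := by
  induction s using DirectSum.Decomposition.inductionOn 𝒜 with
  | zero => simp
  | @homogeneous e m =>
    obtain ⟨m, hm⟩ := m
    have hmem : m • g ∈ ℳ (e + d) := SetLike.GradedSMul.smul_mem hm hg
    rcases eq_or_ne e i with rfl | h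
    · rw [decompose_of_mem_same ℳ hmem, decompose_of_mem_same 𝒜 hm]
    · rw [decompose_of_mem_ne ℳ hmem (by omega), decompose_of_mem_ne 𝒜 hm h, zero_smul]
  | add a b ha hb => simp [add_smul, ha, hb]

theorem comp_smul_of_mem {x : S} {e : ℕ} (hx : x ∈ 𝒜 e) (m : M) (i : ℕ) :
    ((decompose ℳ (x • m)) (e + i) : M) = x • (decompose ℳ m i : M) := by
  induction m using DirectSum.Decomposition.inductionOn ℳ with
  | zero => simp
  | @homogeneous d g =>
    obtain ⟨g, hg⟩ := g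
    have hmem : x • g ∈ ℳ (e + d) := SetLike.GradedSMul.smul_mem hx hg
    rcases eq_or_ne d i with rfl | h
    · rw [decompose_of_mem_same ℳ hmem, decompose_of_mem_same ℳ hg]
    · rw [decompose_of_mem_ne ℳ hmem (by omega), decompose_of_mem_ne ℳ hg h, smul_zero]
  | add a b ha hb => simp [smul_add, ha, hb]

theorem finite_piece [IsNoetherianRing S] [Module.Finite S M] (h0 : ∀ s ∈ 𝒜 0, s ∈ Set.range (algebraMap A S))
    (K : Submodule S M) (n : ℕ) : Module.Finite A ↥(K.restrictScalars A ⊓ ℳ n) := by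
  classical
  let P : Submodule A M := K.restrictScalars A ⊓ ℳ n
  obtain ⟨T, hTP, hT⟩ := Submodule.fg_span_iff_fg_span_finset_subset (R := S) (P : Set M) |>.mp (IsNoetherian.noetherian _)
  refine Module.Finite.iff_fg.mpr ⟨T, le_antisymm (Submodule.span_le.mpr hTP) fun z hz => ?_⟩
  have hzT : z ∈ Submodule.span S (T : Set M) := hT ▸ Submodule.subset_span hz
  rw [show z = (decompose ℳ z n : M) from (decompose_of_mem_same ℳ (Submodule.mem_inf.mp hz).2).symm]
  clear hz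
  obtain ⟨c, -, rfl⟩ := Submodule.mem_span_finset.mp hzT
  rw [decompose_sum, DFinsupp.finsetSum_apply, AddSubmonoidClass.coe_finsetSum]
  refine Submodule.sum_mem _ fun g hg => ?_
  have hgn : g ∈ ℳ n := (Submodule.mem_inf.mp (hTP hg)).2
  have h := comp_smul 𝒜 ℳ (s := c g) hgn 0
  rw [zero_add] at h
  rw [h]
  obtain ⟨a, ha⟩ := h0 _ (decompose 𝒜 (c g) 0).2
  rw [← ha, algebraMap_smul]
  exact Submodule.smul_mem _ a (Submodule.subset_span hg)

/-- Homogeneous submodules. -/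
def Hom' (K : Submodule S M) : Prop := ∀ z ∈ K, ∀ i, (decompose ℳ z i : M) ∈ K

theorem eventually_le [IsNoetherianRing S] [Module.Finite S M] {R : ℕ} (x : Fin R → S)
    (hirr : ∀ i, ∀ s ∈ 𝒜 (i + 1), s ∈ Ideal.span (Set.range x))
    {K L : Submodule S M} (hK : Hom' ℳ K) (hxK : ∀ j, ∀ m ∈ K, x j • m ∈ L) :
    ∃ N, ∀ n, N ≤ n → K.restrictScalars A ⊓ ℳ n ≤ L.restrictScalars A := by
  classical
  obtain ⟨T, hT⟩ := IsNoetherian.noetherian K
  let G : Finset (ℕ × M) := T.biUnion fun m => (decompose ℳ m).support.image fun i => (i, (decompose ℳ m i : M))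
  have hTK : ∀ m ∈ T, m ∈ K := fun m hm => hT ▸ Submodule.subset_span hm
  refine ⟨(G.image Prod.fst).sup id + 1, fun n hn z hz => ?_⟩
  obtain ⟨hzK, hzn⟩ := Submodule.mem_inf.mp hz
  have hzT : z ∈ Submodule.span S (T : Set M) := hT.symm ▸ hzK
  rw [show z = (decompose ℳ z n : M) from (decompose_of_mem_same ℳ hzn).symm]
  obtain ⟨c, -, rfl⟩ := Submodule.mem_span_finset.mp hzT
  rw [decompose_sum, DFinsupp.finsetSum_apply, AddSubmonoidClass.coe_finsetSum]
  refine Submodule.sum_mem _ fun m hm => ?_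
  generalize c m = cm
  rw [← sum_support_decompose ℳ m, Finset.smul_sum, decompose_sum, DFinsupp.finsetSum_apply, AddSubmonoidClass.coe_finsetSum]
  refine Submodule.sum_mem _ fun i hi => ?_
  have him : i ≤ (G.image Prod.fst).sup id := Finset.le_sup (f := id)
    (Finset.mem_image.mpr ⟨(i, _), Finset.mem_biUnion.mpr ⟨m, hm, Finset.mem_image_of_mem _ hi⟩, rfl⟩)
  obtain ⟨e, rfl⟩ : ∃ e, n = (e + 1) + i := ⟨n - i - 1, by omega⟩
  rw [comp_smul 𝒜 ℳ (decompose ℳ m i).2 (e + 1)]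
  obtain ⟨b, hb⟩ := Ideal.mem_span_range_iff_exists_fun.mp (hirr e _ (decompose 𝒜 cm (e + 1)).2)
  rw [← hb, Finset.sum_smul]
  refine Submodule.sum_mem _ fun j _ => ?_
  rw [mul_smul]
  exact L.smul_mem _ (hxK j _ (hK m (hTK m hm) i))

/-- `K ↦ ` classes of the pieces satisfy the exact sequence of multiplication by a degree one element. -/
theorem cls_step [IsNoetherianRing S] [Module.Finite S M] (h0 : ∀ s ∈ 𝒜 0, s ∈ Set.range (algebraMap A S))
    {x : S} (hx : x ∈ 𝒜 1) {K L K' I : Submodule S M} (hK : Hom' ℳ K) (hL : Hom' ℳ L)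
    (hK' : ∀ m, m ∈ K' ↔ m ∈ K ∧ x • m ∈ L) (hI : I = L ⊔ K.map (LinearMap.lsmul S M x)) (n : ℕ) :
    cls ℳ K n - cls ℳ K' n = cls ℳ I (n + 1) - cls ℳ L (n + 1) := by
  classical
  have hle : L.restrictScalars A ⊓ ℳ (n + 1) ≤ I.restrictScalars A ⊓ ℳ (n + 1) :=
    inf_le_inf_right _ fun m hm => hI ▸ Submodule.mem_sup_left hm
  have hle' : K'.restrictScalars A ⊓ ℳ n ≤ K.restrictScalars A ⊓ ℳ n := inf_le_inf_right _ fun m hm => ((hK' m).mp hm).1
  let K₁ := K.restrictScalars A ⊓ ℳ n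
  let I₁ := I.restrictScalars A ⊓ ℳ (n + 1)
  let L₁ : Submodule A I₁ := (L.restrictScalars A ⊓ ℳ (n + 1)).comap I₁.subtype
  let K₂ : Submodule A K₁ := (K'.restrictScalars A ⊓ ℳ n).comap K₁.subtype
  let φ : K₁ →ₗ[A] I₁ := LinearMap.codRestrict I₁ ((LinearMap.lsmul S M x).restrictScalars A ∘ₗ K₁.subtype) fun m => by
    refine Submodule.mem_inf.mpr ⟨hI ▸ Submodule.mem_sup_right ⟨m.1, (Submodule.mem_inf.mp m.2).1, rfl⟩, ?_⟩
    have := SetLike.GradedSMul.smul_mem (A := 𝒜) (B := ℳ) hx (Submodule.mem_inf.mp m.2).2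
    rwa [vadd_eq_add, add_comm] at this
  let ψ : K₁ →ₗ[A] I₁ ⧸ L₁ := L₁.mkQ ∘ₗ φ
  have hψ : Function.Surjective ψ := by
    intro q
    obtain ⟨⟨z, hz⟩, rfl⟩ := L₁.mkQ_surjective q
    obtain ⟨hzI, hzn⟩ := Submodule.mem_inf.mp hz
    rw [Submodule.restrictScalars_mem, hI] at hzI
    obtain ⟨l, hl, _, ⟨k, hk, rfl⟩, hlk⟩ := Submodule.mem_sup.mp hzI
    refine ⟨⟨(decompose ℳ k n : M), Submodule.mem_inf.mpr ⟨hK k hk n, (decompose ℳ k n).2⟩⟩, ?_⟩
    refine (Submodule.Quotient.eq L₁).mpr ?_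
    have h1 : z = (decompose ℳ l (n + 1) : M) + x • (decompose ℳ k n : M) := by
      conv_lhs => rw [← decompose_of_mem_same ℳ hzn, ← hlk]
      rw [decompose_add, DirectSum.add_apply, Submodule.coe_add, LinearMap.lsmul_apply, add_comm n 1, comp_smul_of_mem 𝒜 ℳ hx]
    show x • (decompose ℳ k n : M) - z ∈ L.restrictScalars A ⊓ ℳ (n + 1)
    rw [h1, sub_add_cancel_right]
    exact neg_mem (Submodule.mem_inf.mpr ⟨hL l hl (n + 1), (decompose ℳ l (n + 1)).2⟩)
  have hker : LinearMap.ker ψ = K₂ := by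
    ext m
    rw [LinearMap.mem_ker]
    show Submodule.Quotient.mk (φ m) = 0 ↔ _
    rw [Submodule.Quotient.mk_eq_zero]
    show x • (m : M) ∈ L.restrictScalars A ⊓ ℳ (n + 1) ↔ (m : M) ∈ K'.restrictScalars A ⊓ ℳ n
    refine ⟨fun h => Submodule.mem_inf.mpr ⟨(hK' _).mpr ⟨(Submodule.mem_inf.mp m.2).1, (Submodule.mem_inf.mp h).1⟩, (Submodule.mem_inf.mp m.2).2⟩,
      fun h => Submodule.mem_inf.mpr ⟨((hK' _).mp (Submodule.mem_inf.mp h).1).2, ?_⟩⟩
    exact (φ m).2 |> Submodule.mem_inf.mp |>.2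
  haveI := finite_piece 𝒜 ℳ h0 K n
  haveI := finite_piece 𝒜 ℳ h0 K' n
  haveI := finite_piece 𝒜 ℳ h0 I (n + 1)
  haveI := finite_piece 𝒜 ℳ h0 L (n + 1)
  haveI : Module.Finite A K₁ := finite_piece 𝒜 ℳ h0 K n
  haveI : Module.Finite A I₁ := finite_piece 𝒜 ℳ h0 I (n + 1)
  let eK : ↥(K'.restrictScalars A ⊓ ℳ n) ≃ₗ[A] K₂ := (Submodule.comapSubtypeEquivOfLe hle').symm
  let eL : ↥(L.restrictScalars A ⊓ ℳ (n + 1)) ≃ₗ[A] L₁ := (Submodule.comapSubtypeEquivOfLe hle).symm
  have exK : Function.Exact (K₂.subtype ∘ₗ eK.toLinearMap) ψ := LinearMap.exact_iff.mpr (by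
    rw [hker, LinearMap.range_comp, LinearEquiv.range, Submodule.map_top, Submodule.range_subtype])
  have exI : Function.Exact (L₁.subtype ∘ₗ eL.toLinearMap) L₁.mkQ := LinearMap.exact_iff.mpr (by
    rw [Submodule.ker_mkQ, LinearMap.range_comp, LinearEquiv.range, Submodule.map_top, Submodule.range_subtype])
  have e1 := K0ResLib.clSub_add (P := fin A)
    (ModuleCat.shortComplex_shortExact (ModuleCat.shortComplexOfCompEqZero (K₂.subtype ∘ₗ eK.toLinearMap) ψ exK.linearMap_comp_eq_zero)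
      exK (K₂.injective_subtype.comp eK.injective) hψ) ‹_› ‹_› (Module.Finite.quotient A L₁)
  have e2 := K0ResLib.clSub_add (P := fin A)
    (ModuleCat.shortComplex_shortExact (ModuleCat.shortComplexOfCompEqZero (L₁.subtype ∘ₗ eL.toLinearMap) L₁.mkQ exI.linearMap_comp_eq_zero)
      exI (L₁.injective_subtype.comp eL.injective) L₁.mkQ_surjective) ‹_› ‹_› (Module.Finite.quotient A L₁)
  change cls ℳ K n = cls ℳ K' n + _ at e1
  change cls ℳ I (n + 1) = cls ℳ L (n + 1) + _ at e2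
  rw [e1, e2]
  abel

theorem isP [IsNoetherianRing S] [Module.Finite S M] (h0 : ∀ s ∈ 𝒜 0, s ∈ Set.range (algebraMap A S))
    {R : ℕ} (x : Fin R → S) (hx1 : ∀ j, x j ∈ 𝒜 1) (hirr : ∀ i, ∀ s ∈ 𝒜 (i + 1), s ∈ Ideal.span (Set.range x))
    (r : ℕ) : ∀ (K L : Submodule S M), Hom' ℳ K → Hom' ℳ L → L ≤ K → (∀ j : Fin R, r ≤ (j : ℕ) → ∀ m ∈ K, x j • m ∈ L) →
      IsP r fun n => cls ℳ K n - cls ℳ L n := by
  induction r with
  | zero =>
    intro K L hK hL hLK hxK
    obtain ⟨N, hN⟩ := eventually_le 𝒜 ℳ x hirr hK fun j => hxK j (Nat.zero_le _)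
    refine ⟨N, fun n hn => ?_⟩
    have : K.restrictScalars A ⊓ ℳ n = L.restrictScalars A ⊓ ℳ n :=
      le_antisymm (le_inf (hN n hn) inf_le_right) (inf_le_inf_right _ hLK)
    show cls ℳ K n - cls ℳ L n = 0
    rw [cls, cls, this, sub_self]
  | succ r ih =>
    intro K L hK hL hLK hxK
    show IsP r fun n => (cls ℳ K (n + 1) - cls ℳ L (n + 1)) - (cls ℳ K n - cls ℳ L n)
    by_cases hr : r < R
    swap
    · have h := ih K L hK hL hLK fun j hj => absurd j.2 (by omega)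
      exact h.shift.sub h
    let y : S := x ⟨r, hr⟩
    let K' : Submodule S M := K ⊓ L.comap (LinearMap.lsmul S M y)
    let I : Submodule S M := L ⊔ K.map (LinearMap.lsmul S M y)
    have hK'h : Hom' ℳ K' := fun z hz i => ⟨hK z hz.1 i, by
      show y • (decompose ℳ z i : M) ∈ L
      rw [← comp_smul_of_mem 𝒜 ℳ (hx1 _)]
      exact hL _ hz.2 _⟩
    have hIh : Hom' ℳ I := fun z hz i => by
      obtain ⟨l, hl, _, ⟨k, hk, rfl⟩, rfl⟩ := Submodule.mem_sup.mp hz
      rw [decompose_add, DirectSum.add_apply, Submodule.coe_add]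
      refine add_mem (Submodule.mem_sup_left (hL l hl i)) ?_
      rcases Nat.eq_zero_or_pos i with rfl | hi
      · have h00 : (decompose ℳ (y • k) 0 : M) = 0 := by
          clear hk hz
          induction k using DirectSum.Decomposition.inductionOn ℳ with
          | zero => simp
          | @homogeneous d g =>
            obtain ⟨g, hg⟩ := g
            exact decompose_of_mem_ne ℳ (SetLike.GradedSMul.smul_mem (hx1 _) hg) (by rw [vadd_eq_add]; omega)
          | add a b ha hb => simp [smul_add, ha, hb]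
        rw [LinearMap.lsmul_apply, h00]
        exact zero_mem _
      · obtain ⟨e, rfl⟩ : ∃ e, i = 1 + e := ⟨i - 1, by omega⟩
        rw [LinearMap.lsmul_apply, comp_smul_of_mem 𝒜 ℳ (hx1 _)]
        exact Submodule.mem_sup_right ⟨_, hK k hk e, rfl⟩
    have hIK : I ≤ K := sup_le hLK fun z ⟨k, hk, hz⟩ => hz ▸ K.smul_mem _ hk
    have hLK' : L ≤ K' := fun z hz => ⟨hLK hz, L.smul_mem _ hz⟩
    have h1 := ih K' L hK'h hL hLK' fun j hj m hm => by
      rcases eq_or_lt_of_le hj with h | h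
      · rw [show j = ⟨r, hr⟩ from Fin.ext h.symm]
        exact hm.2
      · exact hxK j h m hm.1
    have h2 := ih K I hK hIh hIK fun j hj m hm => by
      rcases eq_or_lt_of_le hj with h | h
      · rw [show j = ⟨r, hr⟩ from Fin.ext h.symm]
        exact Submodule.mem_sup_right ⟨m, hm, rfl⟩
      · exact Submodule.mem_sup_left (hxK j h m hm)
    have hkey : (fun n => (cls ℳ K (n + 1) - cls ℳ L (n + 1)) - (cls ℳ K n - cls ℳ L n)) =
        fun n => (cls ℳ K (n + 1) - cls ℳ I (n + 1)) - (cls ℳ K' n - cls ℳ L n) := funext fun n => by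
      have := cls_step 𝒜 ℳ h0 (hx1 ⟨r, hr⟩) hK hL (K' := K') (I := I) (fun m => Iff.rfl) rfl n
      rw [show cls ℳ L (n + 1) = cls ℳ I (n + 1) - (cls ℳ K n - cls ℳ K' n) by rw [this]; abel]
      abel
    rw [hkey]
    exact h2.shift.sub h1

end Groth.Agent.HilbK0Lib
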